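import Mathlib.Algebra.BigOperators.Finprod
import Mathlib.LinearAlgebra.FiniteDimensional.Basic
import Mathlib.LinearAlgebra.Dimension.Constructions
import Mathlib.SetTheory.Cardinal.Finite
import Mathlib.Data.Set.Card
import Mathlib.Algebra.Order.BigOperators.Ring.Finset
import Mathlib.Algebra.Order.Field.Rat
import Mathlib.Tactic.Ring
import Mathlib.Tactic.Linarith
import Mathlib.Tactic.Push

/-!
Counting in incidence structures with constant pairwise intersections.
-/

open Finset

namespace Groth.Agent.IncLib

variable {P ι : Type*} [Fintype ι] (inc : P → ι → Prop)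

open scoped Classical in
/-- The indices through a point. -/
noncomputable def idx (p : P) : Finset ι := Finset.univ.filter (inc p)

theorem mem_idx {p : P} {i : ι} : i ∈ idx inc p ↔ inc p i := by simp [idx]

theorem natCard_eq (p : P) : Nat.card {j : ι // inc p j} = #(idx inc p) := by
  classical
  rw [Nat.card_eq_fintype_card, Fintype.card_subtype]
  unfold idx
  congr

variable {inc} (hfin : ∀ i j : ι, i ≠ j → {p : P | inc p i ∧ inc p j}.Finite)
  {h : ℕ} (hcount : ∀ i j : ι, i ≠ j → {p : P | inc p i ∧ inc p j}.ncard = h)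

include hfin in
theorem finite_multiple : {p : P | 2 ≤ #(idx inc p)}.Finite := by
  refine Set.Finite.subset (s := ⋃ x : {x : ι × ι // x.1 ≠ x.2}, {p : P | inc p x.1.1 ∧ inc p x.1.2})
    (Set.finite_iUnion fun x => hfin _ _ x.2) fun p hp => ?_
  obtain ⟨i, hi, j, hj, hij⟩ := Finset.one_lt_card.mp (show 1 < #(idx inc p) from hp)
  exact Set.mem_iUnion.mpr ⟨⟨(i, j), hij⟩, (mem_idx inc).mp hi, (mem_idx inc).mp hj⟩

/-- The multiple points. -/
noncomputable def pts : Finset P := (finite_multiple hfin).toFinset

theorem mem_pts {p : P} : p ∈ pts hfin ↔ 2 ≤ #(idx inc p) := Set.Finite.mem_toFinset _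

include hcount in
open scoped Classical in
theorem card_inter {i j : ι} (hij : i ≠ j) : #((pts hfin).filter fun p => inc p i ∧ inc p j) = h := by
  rw [← hcount i j hij, Set.ncard_eq_toFinset_card _ (hfin i j hij)]
  congr 1
  ext p
  simp only [Finset.mem_filter, Set.Finite.mem_toFinset, Set.mem_ofPred_eq, mem_pts, and_iff_right_iff_imp]
  exact fun hp => Finset.one_lt_card.mpr ⟨i, (mem_idx inc).mpr hp.1, j, (mem_idx inc).mpr hp.2, hij⟩

include hcount in
open scoped Classical in
theorem sum_pts (i : ι) :
    ∑ p ∈ (pts hfin).filter (fun p => inc p i), (#(idx inc p) - 1) = h * (Fintype.card ι - 1) := by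
  calc ∑ p ∈ (pts hfin).filter (fun p => inc p i), (#(idx inc p) - 1)
      = ∑ p ∈ (pts hfin).filter (fun p => inc p i), ∑ j ∈ Finset.univ.erase i, if inc p j then 1 else 0 := by
        refine Finset.sum_congr rfl fun p hp => ?_
        rw [Finset.sum_boole, Nat.cast_id, ← Finset.card_erase_of_mem ((mem_idx inc).mpr (Finset.mem_filter.mp hp).2)]
        congr 1
        ext j
        simp [mem_idx, and_comm]
    _ = ∑ j ∈ Finset.univ.erase i, ∑ p ∈ (pts hfin).filter (fun p => inc p i), if inc p j then 1 else 0 :=
        Finset.sum_comm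
    _ = ∑ j ∈ Finset.univ.erase i, h := by
        refine Finset.sum_congr rfl fun j hj => ?_
        rw [Finset.sum_boole, Nat.cast_id, Finset.filter_filter]
        exact card_inter hfin hcount (Finset.ne_of_mem_erase hj).symm
    _ = h * (Fintype.card ι - 1) := by simp [mul_comm]

include hcount in
theorem sum_sq : ∑ p ∈ pts hfin, #(idx inc p) * (#(idx inc p) - 1) = h * (Fintype.card ι * (Fintype.card ι - 1)) := by
  classical
  calc ∑ p ∈ pts hfin, #(idx inc p) * (#(idx inc p) - 1)
      = ∑ p ∈ pts hfin, ∑ i : ι, if inc p i then #(idx inc p) - 1 else 0 := by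
        refine Finset.sum_congr rfl fun p _ => ?_
        rw [← Finset.sum_filter, Finset.sum_const, smul_eq_mul]
        unfold idx
        congr
    _ = ∑ i : ι, ∑ p ∈ (pts hfin).filter (fun p => inc p i), (#(idx inc p) - 1) := by
        rw [Finset.sum_comm]
        exact Finset.sum_congr rfl fun i _ => (Finset.sum_filter _ _).symm
    _ = _ := by
        simp only [sum_pts hfin hcount]
        simp [mul_left_comm]

variable (hh : 0 < h) (hd : 2 ≤ Fintype.card ι) (hnone : ∀ p : P, ∃ i : ι, ¬ inc p i)

include hcount hh hd hnone in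
open scoped Classical in
theorem lt_card_line (i : ι) : h < #((pts hfin).filter fun p => inc p i) := by
  obtain ⟨j, hji⟩ : ∃ j, j ≠ i := Fintype.exists_ne_of_one_lt_card (by omega) i
  have hsub : ∀ j, j ≠ i → (pts hfin).filter (fun p => inc p i ∧ inc p j) ⊆ (pts hfin).filter (fun p => inc p i) :=
    fun j _ p hp => Finset.mem_filter.mpr ⟨(Finset.mem_filter.mp hp).1, (Finset.mem_filter.mp hp).2.1⟩
  refine lt_of_le_of_ne ((card_inter hfin hcount hji.symm).symm.trans_le (Finset.card_le_card (hsub j hji))) fun he => ?_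
  obtain ⟨p, hp⟩ : ((pts hfin).filter fun p => inc p i).Nonempty := Finset.card_pos.mp (he ▸ hh)
  obtain ⟨k, hk⟩ := hnone p
  have hki : k ≠ i := fun e => hk (e ▸ (Finset.mem_filter.mp hp).2)
  have := Finset.eq_of_subset_of_card_le (hsub k hki) (by rw [card_inter hfin hcount hki.symm, ← he])
  rw [← this] at hp
  exact hk (Finset.mem_filter.mp hp).2.2

include hcount hh hd hnone in
theorem card_le_pts : Fintype.card ι ≤ #(pts hfin) := by
  classical
  let v : ι → (pts hfin → ℚ) := fun i p => if inc p.1 i then 1 else 0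
  have hdot : ∀ i j, ∑ p : pts hfin, v i p * v j p =
      (#((pts hfin).filter fun p => inc p i ∧ inc p j) : ℚ) := by
    intro i j
    rw [Finset.sum_coe_sort (pts hfin) (fun p => (if inc p i then (1 : ℚ) else 0) * if inc p j then 1 else 0)]
    simp only [mul_ite, mul_one, mul_zero, ← ite_and, Finset.sum_boole, and_comm]
  have hli : LinearIndependent ℚ v := by
    rw [Fintype.linearIndependent_iff]
    intro c hc
    let k : ι → ℚ := fun i => #((pts hfin).filter fun p => inc p i)
    have hk : ∀ i, (h : ℚ) < k i := fun i => Nat.cast_lt.mpr (lt_card_line hfin hcount hh hd hnone i)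
    have he : ∀ j, ∑ i, c i * (∑ p : pts hfin, v i p * v j p) = 0 := fun j => by
      calc ∑ i, c i * (∑ p : pts hfin, v i p * v j p)
          = ∑ p : pts hfin, (∑ i, c i • v i) p * v j p := by
            simp only [Finset.sum_apply, Pi.smul_apply, smul_eq_mul, Finset.sum_mul, Finset.mul_sum, mul_assoc]
            exact Finset.sum_comm
        _ = 0 := by simp only [hc, Pi.zero_apply, zero_mul, Finset.sum_const_zero]
    have he' : ∀ j, c j * (k j - h) + h * ∑ i, c i = 0 := fun j => by
      rw [← he j, Finset.mul_sum, ← Finset.add_sum_erase Finset.univ (fun i => (h : ℚ) * c i) (Finset.mem_univ j),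
        ← Finset.add_sum_erase Finset.univ (fun i => c i * ∑ p : pts hfin, v i p * v j p) (Finset.mem_univ j),
        ← add_assoc, hdot j j]
      congr 1
      · simp only [and_self, k]; ring
      · refine Finset.sum_congr rfl fun i hi => ?_
        rw [hdot i j, card_inter hfin hcount (Finset.ne_of_mem_erase hi), mul_comm]
    have hq : ∑ j, c j ^ 2 * (k j - h) + h * (∑ i, c i) ^ 2 = 0 := by
      calc ∑ j, c j ^ 2 * (k j - h) + h * (∑ i, c i) ^ 2
          = ∑ j, (c j ^ 2 * (k j - h) + c j * (h * ∑ i, c i)) := by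
            rw [Finset.sum_add_distrib, ← Finset.sum_mul]; ring
        _ = ∑ j, c j * (c j * (k j - h) + h * ∑ i, c i) := Finset.sum_congr rfl fun j _ => by ring
        _ = 0 := Finset.sum_eq_zero fun j _ => by rw [he', mul_zero]
    have hnn : ∀ j ∈ (Finset.univ : Finset ι), 0 ≤ c j ^ 2 * (k j - h) := fun j _ =>
      mul_nonneg (sq_nonneg _) (by linarith [hk j])
    have h0 : ∑ j, c j ^ 2 * (k j - h) = 0 := by
      have h1 := Finset.sum_nonneg hnn
      have h2 : (0 : ℚ) ≤ h * (∑ i, c i) ^ 2 := by positivity
      linarith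
    intro i
    rcases mul_eq_zero.mp ((Finset.sum_eq_zero_iff_of_nonneg hnn).mp h0 i (Finset.mem_univ i)) with h3 | h3
    · exact pow_eq_zero_iff (two_ne_zero) |>.mp h3
    · linarith [hk i]
  have := hli.fintype_card_le_finrank
  rwa [Module.finrank_pi, Fintype.card_coe] at this

include hcount hh hd hnone in
theorem add_two_le_pts : h + 2 ≤ #(pts hfin) := by
  classical
  obtain ⟨i, j, hij⟩ := Fintype.exists_pair_of_one_lt_card (by omega : 1 < Fintype.card ι)
  let a := (pts hfin).filter fun p => inc p i
  let b := (pts hfin).filter fun p => inc p j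
  have hab : #(a ∩ b) = h := by
    rw [← card_inter hfin hcount hij, ← Finset.filter_and]
  have h1 := Finset.card_union_add_card_inter a b
  have h2 : h < #a := lt_card_line hfin hcount hh hd hnone i
  have h3 : h < #b := lt_card_line hfin hcount hh hd hnone j
  have h4 : #(a ∪ b) ≤ #(pts hfin) :=
    Finset.card_le_card (Finset.union_subset (Finset.filter_subset _ _) (Finset.filter_subset _ _))
  omega

theorem natCard_multiple : Nat.card {p : P // 2 ≤ Nat.card {j : ι // inc p j}} = #(pts hfin) := by
  rw [← Nat.card_eq_finsetCard (pts hfin)]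
  exact Nat.card_congr (Equiv.subtypeEquivRight fun p => by rw [mem_pts, natCard_eq])

end Groth.Agent.IncLib
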